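import Groth.Agent.Lib.SmoothRegImm25.Local
import Mathlib.RingTheory.Etale.Locus
import Mathlib.RingTheory.Etale.Kaehler
import Mathlib.RingTheory.Kaehler.Polynomial
import Mathlib.RingTheory.Regular.Flat
import Mathlib.RingTheory.Smooth.Flat

/-!
Sequences with independent differentials in a local ring of affine space are regular; kernels of
surjections between smooth local algebras are generated by regular sequences.
-/

namespace Groth.Agent.SmoothRegImm25

open IsLocalRing TensorProduct KaehlerDifferential MvPolynomial

universe u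

section Vars

variable (R : Type u) [CommRing R] {ι : Type u}

/-- Variables form a regular sequence. -/
theorem isWeaklyRegular_X {r : ℕ} (e : Fin r → ι) (he : Function.Injective e) :
    RingTheory.Sequence.IsWeaklyRegular (MvPolynomial ι R) (List.ofFn fun i => X (R := R) (e i)) := by
  classical
  rw [Vasc.isWeaklyRegular_ofFn_iff]
  intro i a ha
  let v : ι → MvPolynomial ι R := fun j => if ∃ k, k < i ∧ e k = j then 0 else X j
  let ψ : MvPolynomial ι R →ₐ[R] MvPolynomial ι R := aeval v
  let J : Ideal (MvPolynomial ι R) := Ideal.span ((fun k => X (R := R) (e k)) '' {k | k < i})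
  have hJ : J ≤ RingHom.ker ψ := Ideal.span_le.mpr (by
    rintro _ ⟨k, hk, rfl⟩
    show ψ (X (e k)) = 0
    rw [aeval_X]
    exact if_pos ⟨k, hk, rfl⟩)
  have hsub : ∀ p, p - ψ p ∈ J := by
    intro p
    induction p using MvPolynomial.induction_on with
    | C c => simp [ψ]
    | add u w hu hw => rw [map_add, add_sub_add_comm]; exact J.add_mem hu hw
    | mul_X u j hu =>
      rw [map_mul, show u * X j - ψ u * ψ (X j) = (u - ψ u) * X j + ψ u * (X j - ψ (X j)) by ring]
      refine J.add_mem (J.mul_mem_right _ hu) (J.mul_mem_left _ ?_)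
      rw [aeval_X]
      simp only [v]
      by_cases h : ∃ k, k < i ∧ e k = j
      · rw [if_pos (h := _) h, sub_zero]
        obtain ⟨k, hk, rfl⟩ := h
        exact Ideal.subset_span ⟨k, hk, rfl⟩
      · rw [if_neg h, sub_self]; exact J.zero_mem
  have h0 : ψ (X (e i) * a) = 0 := hJ ha
  rw [map_mul, aeval_X] at h0
  simp only [v] at h0
  rw [if_neg (fun ⟨k, hk, hki⟩ => hk.ne (he hki))] at h0
  have hz : ψ a = 0 := by
    refine (isRegular_X (n := e i)).left ?_
    show X (e i) * ψ a = X (e i) * 0
    rw [h0, mul_zero]
  show a ∈ J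
  have := hsub a
  rwa [hz, sub_zero] at this

end Vars

/-- The map on differentials at a pure tensor. -/
theorem mapBaseChange_one_D (R A B : Type u) [CommRing R] [CommRing A] [CommRing B] [Algebra R A] [Algebra R B]
    [Algebra A B] [IsScalarTower R A B] (x : A) :
    mapBaseChange R A B (1 ⊗ₜ D R A x) = D R B (algebraMap A B x) := by
  rw [mapBaseChange_tmul, one_smul, map_D]

section Chart

variable {R : Type u} [CommRing R] {N : ℕ} (q : Ideal (MvPolynomial (Fin N) R)) [q.IsPrime]

/-- The differentials of the coordinates. -/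
noncomputable def coordBasis : Module.Basis (Fin N) (Localization.AtPrime q) Ω[Localization.AtPrime q⁄R] :=
  haveI : Algebra.FormallyEtale (MvPolynomial (Fin N) R) (Localization.AtPrime q) :=
    Algebra.FormallyEtale.of_isLocalization q.primeCompl
  (Algebra.TensorProduct.basis (Localization.AtPrime q) (mvPolynomialBasis R (Fin N))).map
    (tensorKaehlerEquivOfFormallyEtale R (MvPolynomial (Fin N) R) (Localization.AtPrime q))

theorem coordBasis_apply (i : Fin N) :
    coordBasis q i = D R (Localization.AtPrime q) (algebraMap _ _ (X i : MvPolynomial (Fin N) R)) := by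
  rw [coordBasis, Module.Basis.map_apply, Algebra.TensorProduct.basis_apply, mvPolynomialBasis_apply,
    tensorKaehlerEquivOfFormallyEtale_apply]
  exact mapBaseChange_one_D _ _ _ _

theorem free_kaehler : Module.Free (Localization.AtPrime q) Ω[Localization.AtPrime q⁄R] :=
  Module.Free.of_basis (coordBasis q)

theorem finite_kaehler : Module.Finite (Localization.AtPrime q) Ω[Localization.AtPrime q⁄R] :=
  Module.Finite.of_basis (coordBasis q)

theorem formallySmooth_local : Algebra.FormallySmooth R (Localization.AtPrime q) :=
  haveI : Algebra.FormallySmooth (MvPolynomial (Fin N) R) (Localization.AtPrime q) :=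
    Algebra.FormallySmooth.of_isLocalization q.primeCompl
  Algebra.FormallySmooth.comp R (MvPolynomial (Fin N) R) (Localization.AtPrime q)

theorem span_dbar_X :
    Submodule.span (ResidueField (Localization.AtPrime q)) (Set.range fun i : Fin N =>
      dbar R (algebraMap _ (Localization.AtPrime q) (X i : MvPolynomial (Fin N) R))) = ⊤ := by
  have h := (Algebra.TensorProduct.basis (ResidueField (Localization.AtPrime q)) (coordBasis q)).span_eq
  rw [show (fun i : Fin N => dbar R (algebraMap _ (Localization.AtPrime q) (X i : MvPolynomial (Fin N) R))) =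
    ⇑(Algebra.TensorProduct.basis (ResidueField (Localization.AtPrime q)) (coordBasis q)) from
      funext fun i => by rw [Algebra.TensorProduct.basis_apply, coordBasis_apply]; rfl]
  exact h

/-- Elements with independent differentials form a regular sequence. -/
theorem isWeaklyRegular_of_indep {r : ℕ} (c : Fin r → MvPolynomial (Fin N) R)
    (hind : LinearIndependent (ResidueField (Localization.AtPrime q))
      (fun i => dbar R (algebraMap _ (Localization.AtPrime q) (c i)))) :
    RingTheory.Sequence.IsWeaklyRegular (Localization.AtPrime q)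
      (List.ofFn fun i => algebraMap _ (Localization.AtPrime q) (c i)) := by
  classical
  let P := MvPolynomial (Fin N) R
  let L := Localization.AtPrime q
  let κ := ResidueField L
  let v : Fin r → κ ⊗[L] Ω[L⁄R] := fun i => dbar R (algebraMap P L (c i))
  let w : Fin N → κ ⊗[L] Ω[L⁄R] := fun i => dbar R (algebraMap P L (X i))
  have hv : LinearIndepOn κ id (Set.range v) := hind.linearIndepOn_id
  have hsub : Set.range v ⊆ Set.range v ∪ Set.range w := Set.subset_union_left
  have htop : ⊤ ≤ Submodule.span κ (Set.range v ∪ Set.range w) :=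
    (span_dbar_X q).ge.trans (Submodule.span_mono Set.subset_union_right)
  let b := Module.Basis.extendLe hv hsub htop
  haveI := finite_kaehler (R := R) q
  haveI : Finite ↥(hv.extend hsub) := (Module.Finite.finite_basis b)
  letI := Fintype.ofFinite ↥(hv.extend hsub)
  have hcard : Nat.card ↥(hv.extend hsub) = N := by
    rw [← Module.finrank_eq_nat_card_basis b,
      Module.finrank_eq_nat_card_basis (Algebra.TensorProduct.basis κ (coordBasis q)), Nat.card_fin]
  -- lifts of the members of the basis
  have hlift : ∀ z : ↥(hv.extend hsub), ∃ p : P, dbar R (algebraMap P L p) = z.1 ∧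
      ∀ i, v i = z.1 → p = c i := by
    intro z
    by_cases h : ∃ i, v i = z.1
    · obtain ⟨i, hi⟩ := h
      exact ⟨c i, hi, fun j hj => congrArg c (hind.injective (hi.trans hj.symm))⟩
    · obtain ⟨i, hi⟩ : ∃ i, w i = z.1 := by
        rcases hv.extend_subset hsub z.2 with h' | h'
        · exact absurd h' (fun ⟨i, hi⟩ => h ⟨i, hi⟩)
        · exact h'
      exact ⟨X i, hi, fun j hj => absurd ⟨j, hj⟩ h⟩
  choose a ha hac using hlift
  let P0 := MvPolynomial ↥(hv.extend hsub) R
  let φ : P0 →ₐ[R] P := aeval a
  letI : Algebra P0 P := φ.toRingHom.toAlgebra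
  haveI : IsScalarTower R P0 P := IsScalarTower.of_algebraMap_eq fun x => (φ.commutes x).symm
  haveI : Algebra.FinitePresentation P0 P := Algebra.FinitePresentation.of_restrict_scalars_finitePresentation R P0 P
  haveI : IsScalarTower R P0 L := IsScalarTower.of_algebraMap_eq fun x => by
    rw [IsScalarTower.algebraMap_apply R P L, IsScalarTower.algebraMap_apply R P0 P,
      ← IsScalarTower.algebraMap_apply P0 P L]
  let b0 : Module.Basis ↥(hv.extend hsub) L (L ⊗[P0] Ω[P0⁄R]) :=
    Algebra.TensorProduct.basis L (mvPolynomialBasis R ↥(hv.extend hsub))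
  have hval : ∀ z, mapBaseChange R P0 L (b0 z) = D R L (algebraMap P L (a z)) := fun z => by
    rw [Algebra.TensorProduct.basis_apply, mvPolynomialBasis_apply, mapBaseChange_one_D,
      IsScalarTower.algebraMap_apply P0 P L]
    exact congrArg (fun t => D R L (algebraMap P L t)) (aeval_X a z)
  have hsurj : Function.Surjective (mapBaseChange R P0 L) := by
    rw [← LinearMap.range_eq_top]
    refine IsLocalRing.map_tensorProduct_mk_eq_top.mp ?_
    rw [eq_top_iff]
    intro y _
    have hy : y ∈ Submodule.span κ (Set.range b) := b.span_eq ▸ Submodule.mem_top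
    induction hy using Submodule.span_induction with
    | mem z hz =>
      obtain ⟨z, rfl⟩ := hz
      refine ⟨D R L (algebraMap P L (a z)), ⟨b0 z, hval z⟩, ?_⟩
      rw [Module.Basis.extendLe_apply_self]
      exact ha z
    | zero => exact Submodule.zero_mem _
    | add u w _ _ hu hw => exact Submodule.add_mem _ (hu trivial) (hw trivial)
    | smul t u _ hu =>
      obtain ⟨l, rfl⟩ := residue_surjective t
      obtain ⟨m, hm, rfl⟩ := hu trivial
      refine ⟨l • m, Submodule.smul_mem _ l hm, ?_⟩
      exact (residue_smul_tmul l m).symm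
  have hbij : Function.Bijective (mapBaseChange R P0 L) := by
    let e : (L ⊗[P0] Ω[P0⁄R]) ≃ₗ[L] Ω[L⁄R] := b0.equiv (coordBasis q)
      (Finite.equivFinOfCardEq hcard)
    haveI : Module.Finite L (L ⊗[P0] Ω[P0⁄R]) := Module.Finite.of_basis b0
    have h := OrzechProperty.bijective_of_surjective_endomorphism
      (e.symm.toLinearMap ∘ₗ (mapBaseChange R P0 L : (L ⊗[P0] Ω[P0⁄R]) →ₗ[L] Ω[L⁄R]))
      (e.symm.surjective.comp hsurj)
    rwa [LinearMap.coe_comp, LinearEquiv.coe_coe, e.symm.bijective.of_comp_iff'] at h
  haveI := formallySmooth_local (R := R) q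
  haveI : Algebra.FormallyEtale P0 L := by
    have hΩ : Subsingleton Ω[L⁄P0] := by
      refine subsingleton_of_forall_eq 0 fun x => ?_
      obtain ⟨y, rfl⟩ := map_surjective R P0 L x
      exact (exact_mapBaseChange_map R P0 L y).mpr (hbij.2 y)
    have hH : Subsingleton (Algebra.H1Cotangent P0 L) := by
      refine subsingleton_of_forall_eq 0 fun x => ?_
      have h0 : Algebra.H1Cotangent.δ R P0 L x = 0 :=
        hbij.1 ((Algebra.H1Cotangent.exact_δ_mapBaseChange R P0 L).apply_apply_eq_zero x |>.trans
          (map_zero _).symm)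
      obtain ⟨y, rfl⟩ := (Algebra.H1Cotangent.exact_map_δ R P0 L x).mp h0
      rw [Subsingleton.elim y 0, map_zero]
    exact ⟨hΩ, hH⟩
  haveI : Algebra.IsEtaleAt P0 q := ‹Algebra.FormallyEtale P0 L›
  obtain ⟨g, hg, het⟩ := Algebra.exists_etale_of_isEtaleAt (R := P0) q
  let Pg := Localization.Away g
  have hgu : IsUnit (algebraMap P L g) := IsLocalization.map_units (M := q.primeCompl) L ⟨g, hg⟩
  letI : Algebra Pg L := (IsLocalization.Away.lift g hgu).toAlgebra
  haveI : IsScalarTower P Pg L := IsScalarTower.of_algebraMap_eq fun x =>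
    (IsLocalization.Away.lift_eq g hgu x).symm
  haveI : IsScalarTower P0 Pg L := IsScalarTower.to₁₃₄ P0 P Pg L
  haveI : IsLocalization (Submonoid.map (algebraMap P Pg) q.primeCompl) L :=
    IsLocalization.isLocalization_of_submonoid_le (M := Submonoid.powers g) (N := q.primeCompl) Pg L
      (Submonoid.powers_le.mpr hg)
  haveI : Module.Flat Pg L := IsLocalization.flat L (Submonoid.map (algebraMap P Pg) q.primeCompl)
  haveI : Module.Flat P0 Pg := inferInstance
  haveI : Module.Flat P0 L := Module.Flat.trans P0 Pg L
  let e : Fin r → ↥(hv.extend hsub) := fun i => ⟨v i, hv.subset_extend hsub ⟨i, rfl⟩⟩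
  have hreg := (isWeaklyRegular_X R e (fun i j h => hind.injective (congrArg Subtype.val h))).of_flat (S := L)
  rw [List.map_ofFn] at hreg
  have : (algebraMap P0 L) ∘ (fun i => X (e i)) = fun i => algebraMap P L (c i) := funext fun i => by
    show algebraMap P0 L (X (e i)) = _
    rw [IsScalarTower.algebraMap_apply P0 P L]
    congr 1
    exact (aeval_X a (e i)).trans (hac (e i) i rfl)
  rwa [this] at hreg

/-- Kernels of surjections between smooth quotients are generated by regular sequences. -/
theorem exists_regular_of_smooth (S T : Type u) [CommRing S] [IsLocalRing S] [CommRing T] [IsLocalRing T]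
    [Algebra R S] [Algebra (Localization.AtPrime q) S] [IsScalarTower R (Localization.AtPrime q) S]
    [Algebra R T] [Algebra (Localization.AtPrime q) T] [IsScalarTower R (Localization.AtPrime q) T]
    [Algebra S T] [IsScalarTower (Localization.AtPrime q) S T]
    (hS : Function.Surjective (algebraMap (Localization.AtPrime q) S))
    (hT : Function.Surjective (algebraMap S T))
    (hfgS : (RingHom.ker (algebraMap (Localization.AtPrime q) S)).FG)
    (hfgT : (RingHom.ker (algebraMap (Localization.AtPrime q) T)).FG)
    [Algebra.FormallySmooth R S] [Algebra.FormallySmooth R T] :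
    ∃ (n : ℕ) (g : Fin n → S), RingHom.ker (algebraMap S T) = Ideal.span (Set.range g) ∧
      RingTheory.Sequence.IsWeaklyRegular S (List.ofFn g) := by
  classical
  let P := MvPolynomial (Fin N) R
  let L := Localization.AtPrime q
  let κ := ResidueField L
  haveI := free_kaehler (R := R) q
  haveI := finite_kaehler (R := R) q
  haveI := formallySmooth_local (R := R) q
  let J := RingHom.ker (algebraMap L S)
  let M := RingHom.ker (algebraMap L T)
  have hLT : Function.Surjective (algebraMap L T) := by
    rw [IsScalarTower.algebraMap_eq L S T]; exact hT.comp hS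
  have hJ : DInj R J := (formallySmooth_iff R S hS hfgS).mp inferInstance
  have hM : DInj R M := (formallySmooth_iff R T hLT hfgT).mp inferInstance
  have hMm : M ≤ maximalIdeal L := le_maximalIdeal (RingHom.ker_ne_top _)
  have hJM : J ≤ M := fun x hx => by
    rw [RingHom.mem_ker, IsScalarTower.algebraMap_apply L S T, RingHom.mem_ker.mp hx, map_zero]
  -- an independent family in the image of `P`
  have fam : ∀ (I : Ideal L), I ≤ maximalIdeal L → I.FG → DInj R I →
      ∀ {k : ℕ} (a : Fin k → P), (∀ i, algebraMap P L (a i) ∈ I) →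
      LinearIndependent κ (fun i => dbar R (algebraMap P L (a i))) →
      ∃ (m : ℕ) (d : Fin m → P), (∀ i, algebraMap P L (d i) ∈ I) ∧
        LinearIndependent κ (fun i => dbar R (algebraMap P L ((Fin.append a d) i))) ∧
        I = Ideal.span (Set.range fun i => algebraMap P L ((Fin.append a d) i)) := by
    intro I hIm hIfg hI k a haI hind
    let V := κ ⊗[L] Ω[L⁄R]
    let t : Set V := (fun p : P => dbar R (algebraMap P L p)) '' {p | algebraMap P L p ∈ I}
    let s : Set V := Set.range fun i => dbar R (algebraMap P L (a i))
    have hst : s ⊆ t := by rintro _ ⟨i, rfl⟩; exact ⟨a i, haI i, rfl⟩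
    have hsi : LinearIndepOn κ id s := hind.linearIndepOn_id
    let e : Set V := hsi.extend hst \ s
    have hfin : (hsi.extend hst).Finite := by
      haveI : Module.Finite κ V := inferInstance
      exact LinearIndependent.set_finite_of_isNoetherian (hsi.linearIndepOn_extend hst)
    have hefin : e.Finite := hfin.sdiff
    obtain ⟨m, w, hwinj, hwrange⟩ : ∃ (m : ℕ) (w : Fin m → V), Function.Injective w ∧ Set.range w = e :=
      ⟨_, _, (hefin.fin_embedding.choose_spec.choose).injective, hefin.fin_embedding.choose_spec.choose_spec⟩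
    have hw : ∀ j, ∃ p : P, algebraMap P L p ∈ I ∧ dbar R (algebraMap P L p) = w j := fun j => by
      have : w j ∈ e := hwrange ▸ ⟨j, rfl⟩
      obtain ⟨p, hp, hpe⟩ := hsi.extend_subset hst this.1
      exact ⟨p, hp, hpe⟩
    choose d hdI hd using hw
    let F : Fin (k + m) → V := fun i => dbar R (algebraMap P L (Fin.append a d i))
    have hF : F = Fin.append (fun i => dbar R (algebraMap P L (a i))) w := funext fun i => by
      refine Fin.addCases (fun i => ?_) (fun j => ?_) i
      · simp [F]
      · simp [F, hd]
    have hFinj : Function.Injective F := by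
      rw [hF, Fin.append_injective_iff]
      refine ⟨hind.injective, hwinj, fun i j h => ?_⟩
      exact ((hwrange ▸ ⟨j, rfl⟩ : w j ∈ e)).2 ⟨i, h⟩
    have hFrange : Set.range F = hsi.extend hst := by
      have hap : Set.range (Fin.append (fun i => dbar R (algebraMap P L (a i))) w) =
          Set.range (fun i => dbar R (algebraMap P L (a i))) ∪ Set.range w := by
        ext z
        constructor
        · rintro ⟨i, rfl⟩
          refine Fin.addCases (fun i => ?_) (fun j => ?_) i
          · exact Or.inl ⟨i, by simp⟩
          · exact Or.inr ⟨j, by simp⟩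
        · rintro (⟨i, rfl⟩ | ⟨j, rfl⟩)
          · exact ⟨Fin.castAdd m i, by simp⟩
          · exact ⟨Fin.natAdd k j, by simp⟩
      rw [hF, hap, hwrange]
      exact Set.union_sdiff_cancel (hsi.subset_extend hst)
    refine ⟨m, d, hdI, ?_, ?_⟩
    · exact (linearIndepOn_id_range_iff hFinj).mp (hFrange ▸ hsi.linearIndepOn_extend hst)
    · have hspan : ∀ x ∈ I, dbar R x ∈ Submodule.span κ (Set.range F) := fun x hx => by
        obtain ⟨⟨p, u⟩, hu⟩ := IsLocalization.surj q.primeCompl x
        have hp : algebraMap P L p ∈ I := hu ▸ I.mul_mem_right _ hx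
        have h1 : dbar R (algebraMap P L p) ∈ Submodule.span κ (Set.range F) := by
          rw [hFrange]
          exact hsi.subset_span_extend hst ⟨p, hp, rfl⟩
        have hu' : IsUnit (algebraMap P L u) := IsLocalization.map_units L u
        rw [← hu, mul_comm, dbar_mul R (hIm hx)] at h1
        exact (Submodule.smul_mem_iff _ (fun h => (maximalIdeal.isMaximal L).ne_top
          ((Ideal.eq_top_of_isUnit_mem _ ((residue_eq_zero_iff _).mp h) hu')))).mp h1
      have hmem : ∀ i, algebraMap P L (Fin.append a d i) ∈ I := fun i => by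
        refine Fin.addCases (fun i => ?_) (fun j => ?_) i
        · simpa using haI i
        · simpa using hdI j
      refine le_antisymm ?_ (Ideal.span_le.mpr (by rintro _ ⟨i, rfl⟩; exact hmem i))
      refine Submodule.le_of_le_smul_of_le_jacobson_bot hIfg (IsLocalRing.maximalIdeal_le_jacobson _) fun x hx => ?_
      obtain ⟨co, hco⟩ := (Submodule.mem_span_range_iff_exists_fun κ).mp (hspan x hx)
      choose l hl using fun i => residue_surjective (co i)
      let y := ∑ i, l i * algebraMap P L (Fin.append a d i)
      have hy : y ∈ Ideal.span (Set.range fun i => algebraMap P L (Fin.append a d i)) :=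
        Ideal.sum_mem _ fun i _ => Ideal.mul_mem_left _ _ (Ideal.subset_span ⟨i, rfl⟩)
      have hyI : y ∈ I := Ideal.sum_mem _ fun i _ => I.mul_mem_left _ (hmem i)
      have hdy : dbar R (x - y) = 0 := by
        rw [dbar_sub, dbar_sum, Finset.sum_congr rfl fun i _ => dbar_mul R (hIm (hmem i)) (l i), sub_eq_zero]
        simp_rw [hl]
        exact hco.symm
      have h := Submodule.add_mem_sup hy
        (show x - y ∈ maximalIdeal L • I by simpa [smul_eq_mul] using hI _ (I.sub_mem hx hyI) hdy)
      rwa [add_sub_cancel] at h
  obtain ⟨r, a, haJ, hai, hJspan⟩ := fam J (hJM.trans hMm) hfgS hJ (fun i : Fin 0 => i.elim0)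
    (fun i => i.elim0) linearIndependent_empty_type
  let a' : Fin (0 + r) → P := Fin.append (fun i : Fin 0 => i.elim0) a
  have ha'M : ∀ i, algebraMap P L (a' i) ∈ M := fun i =>
    hJM (hJspan ▸ Ideal.subset_span ⟨i, rfl⟩)
  obtain ⟨m, d, -, hdi, hMspan⟩ := fam M hMm hfgT hM a' ha'M hai
  have hreg := isWeaklyRegular_of_indep q _ hdi
  refine ⟨m, fun j => algebraMap L S (algebraMap P L (d j)), ?_, ?_⟩
  · refine le_antisymm ?_ (Ideal.span_le.mpr ?_)
    · intro z hz
      obtain ⟨x, rfl⟩ := hS z
      rw [RingHom.mem_ker, ← IsScalarTower.algebraMap_apply L S T] at hz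
      have hx : x ∈ M := hz
      rw [hMspan] at hx
      have := Ideal.mem_map_of_mem (algebraMap L S) hx
      rw [Ideal.map_span, ← Set.range_comp] at this
      refine (Ideal.span_le.mpr ?_) this
      rintro _ ⟨i, rfl⟩
      refine Fin.addCases (fun i => ?_) (fun j => ?_) i
      · simp only [Function.comp_apply, Fin.append_left]
        rw [show algebraMap L S (algebraMap P L (a' i)) = 0 from
          RingHom.mem_ker.mp (hJspan ▸ Ideal.subset_span ⟨i, rfl⟩ : algebraMap P L (a' i) ∈ J)]
        exact Submodule.zero_mem _
      · simp only [Function.comp_apply, Fin.append_right]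
        exact Ideal.subset_span ⟨j, rfl⟩
    · rintro _ ⟨j, rfl⟩
      show algebraMap S T _ = 0
      rw [← IsScalarTower.algebraMap_apply L S T]
      have : algebraMap P L (d j) ∈ M := by
        rw [hMspan]; exact Ideal.subset_span ⟨Fin.natAdd (0 + r) j, by simp⟩
      exact this
  · rw [regular_sup_iff (algebraMap L S) hS]
    intro j x hx
    have hk := (Vasc.isWeaklyRegular_ofFn_iff _).mp hreg (Fin.natAdd (0 + r) j) x
    have hset : Ideal.span ((fun i => algebraMap P L (Fin.append a' d i)) '' {i | i < Fin.natAdd (0 + r) j}) =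
        J ⊔ Ideal.span ((fun j => algebraMap P L (d j)) '' {i | i < j}) := by
      rw [hJspan, ← Ideal.span_union]
      congr 1
      ext z
      constructor
      · rintro ⟨i, hi, rfl⟩
        revert hi
        refine Fin.addCases (fun i => ?_) (fun j' => ?_) i
        · intro _; left; exact ⟨i, by simp only [Fin.append_left]; rfl⟩
        · intro hi; right
          refine ⟨j', ?_, by simp⟩
          rw [Set.mem_setOf_eq, Fin.lt_def, Fin.val_natAdd, Fin.val_natAdd] at hi
          exact Fin.lt_def.mpr (Nat.add_lt_add_iff_left.mp hi)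
      · rintro (⟨i, rfl⟩ | ⟨j', hj', rfl⟩)
        · refine ⟨Fin.castAdd m i, ?_, by simp only [Fin.append_left]; rfl⟩
          rw [Set.mem_setOf_eq, Fin.lt_def, Fin.val_castAdd, Fin.val_natAdd]
          have := i.2
          omega
        · exact ⟨Fin.natAdd (0 + r) j', by
            rw [Set.mem_setOf_eq, Fin.lt_def, Fin.val_natAdd, Fin.val_natAdd]
            exact Nat.add_lt_add_left (Fin.lt_def.mp hj') _, by simp⟩
    rw [hset] at hk
    simp only [Fin.append_right] at hk
    exact hk hx

end Chart

end Groth.Agent.SmoothRegImm25
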