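import Groth.Agent.Lib.SmoothRegImm25.Chart
import Groth.Prelude.Def_CInt
import Mathlib.RingTheory.SurjectiveOnStalks
import Mathlib.RingTheory.Smooth.Locus
import Mathlib.RingTheory.Polynomial.Basic
import Mathlib.RingTheory.Localization.Submodule

/-!
A closed subscheme smooth at a point sits in a smooth ambient scheme iff it is regularly immersed.
-/

namespace Groth.Agent.SmoothRegImm25

universe u

open RingTheory.Sequence

theorem isRegularIdeal_iff {A : Type u} [CommRing A] (I : Ideal A) :
    CInt.IsRegularIdeal I ↔ I ≠ ⊤ ∧ ∃ (n : ℕ) (g : Fin n → A), IsWeaklyRegular A (List.ofFn g) ∧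
      Ideal.span (Set.range g) = I := by
  have hspan : ∀ {n : ℕ} (g : Fin n → A), Ideal.ofList (List.ofFn g) = Ideal.span (Set.range g) := fun g => by
    rw [Ideal.ofList]
    congr 1
    ext a
    simp [List.mem_ofFn]
  have htop : ∀ J : Ideal A, (J • ⊤ : Submodule A A) = J := fun J => by rw [smul_eq_mul, Ideal.mul_top]
  constructor
  · rintro ⟨rs, hrs, rfl⟩
    refine ⟨fun h => hrs.top_ne_smul ?_, rs.length, rs.get, by rw [List.ofFn_get]; exact hrs.toIsWeaklyRegular, ?_⟩
    · rw [htop, h]
    · rw [← hspan, List.ofFn_get]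
  · rintro ⟨hne, n, g, hg, rfl⟩
    refine ⟨List.ofFn g, ⟨hg, ?_⟩, hspan g⟩
    rw [htop, hspan]
    exact hne.symm

/-- Regular ideals correspond under isomorphisms. -/
theorem isRegularIdeal_of_equiv {A B : Type u} [CommRing A] [CommRing B] (e : A ≃+* B) {I : Ideal A}
    (h : CInt.IsRegularIdeal I) : CInt.IsRegularIdeal (I.map (e : A →+* B)) := by
  rw [isRegularIdeal_iff] at h ⊢
  obtain ⟨hne, n, g, hg, rfl⟩ := h
  refine ⟨fun ht => hne ?_, n, fun i => (e : A →+* B) (g i), ?_, ?_⟩
  · have := congrArg (Ideal.map (e.symm : B →+* A)) ht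
    rwa [Ideal.map_map, show ((e.symm : B →+* A).comp (e : A →+* B)) = RingHom.id A from
      RingHom.ext e.symm_apply_apply, Ideal.map_id, Ideal.map_top] at this
  · rw [regular_sup_iff (e : A →+* B) e.surjective]
    rw [Vasc.isWeaklyRegular_ofFn_iff] at hg
    rw [show RingHom.ker (e : A →+* B) = ⊥ from (RingHom.injective_iff_ker_eq_bot (e : A →+* B)).mp e.injective]
    intro i a ha
    rw [bot_sup_eq] at ha ⊢
    exact hg i a ha
  · rw [Ideal.map_span, ← Set.range_comp]; rfl

/-- The affine statement. -/
theorem isSmoothAt_iff_isRegularIdeal (R A B : Type u) [CommRing R] [IsNoetherianRing R] [CommRing A] [CommRing B]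
    [Algebra R A] [Algebra.FiniteType R A] [Algebra R B] [Algebra A B] [IsScalarTower R A B]
    (hsurj : Function.Surjective (algebraMap A B)) (q : Ideal A) [q.IsPrime] (Q : Ideal B) [Q.IsPrime]
    (hq : q = Q.comap (algebraMap A B)) [Algebra.IsSmoothAt R Q] :
    Algebra.IsSmoothAt R q ↔
      CInt.IsRegularIdeal (RingHom.ker (Localization.localRingHom q Q (algebraMap A B) hq)) := by
  obtain ⟨N, φ, hφ⟩ := Algebra.FiniteType.iff_quotient_mvPolynomial''.mp ‹Algebra.FiniteType R A›
  let qP : Ideal (MvPolynomial (Fin N) R) := q.comap φ.toRingHom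
  let L := Localization.AtPrime qP
  let Sl := Localization.AtPrime q
  let Tl := Localization.AtPrime Q
  let α : L →+* Sl := Localization.localRingHom qP q φ.toRingHom rfl
  let β : Sl →+* Tl := Localization.localRingHom q Q (algebraMap A B) hq
  have hα : Function.Surjective α := RingHom.surjectiveOnStalks_of_surjective hφ q ‹_›
  have hβ : Function.Surjective β := by
    subst hq
    exact RingHom.surjectiveOnStalks_of_surjective hsurj Q ‹_›
  letI : Algebra L Sl := α.toAlgebra
  letI : Algebra Sl Tl := β.toAlgebra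
  letI : Algebra L Tl := (β.comp α).toAlgebra
  haveI : IsScalarTower L Sl Tl := IsScalarTower.of_algebraMap_eq' rfl
  have hα0 : ∀ r, α (algebraMap R L r) = algebraMap R Sl r := fun r => by
    rw [IsScalarTower.algebraMap_apply R (MvPolynomial (Fin N) R) L, Localization.localRingHom_to_map,
      IsScalarTower.algebraMap_apply R A Sl]
    exact congrArg _ (φ.commutes r)
  haveI : IsScalarTower R L Sl := IsScalarTower.of_algebraMap_eq fun r => (hα0 r).symm
  haveI : IsScalarTower R L Tl := IsScalarTower.of_algebraMap_eq fun r => by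
    show _ = β (α (algebraMap R L r))
    rw [hα0, IsScalarTower.algebraMap_apply R A Sl, Localization.localRingHom_to_map,
      IsScalarTower.algebraMap_apply R B Tl, IsScalarTower.algebraMap_apply R A B]
  haveI : IsNoetherianRing (MvPolynomial (Fin N) R) := inferInstance
  haveI : IsNoetherianRing L := IsLocalization.isNoetherianRing qP.primeCompl L inferInstance
  haveI : Algebra.FormallySmooth R Tl := ‹Algebra.IsSmoothAt R Q›
  have hker : RingHom.ker (algebraMap Sl Tl) ≠ ⊤ := RingHom.ker_ne_top _
  constructor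
  · intro h
    haveI : Algebra.FormallySmooth R Sl := h
    obtain ⟨n, g, hg, hreg⟩ := exists_regular_of_smooth qP Sl Tl hα hβ (IsNoetherian.noetherian _)
      (IsNoetherian.noetherian _)
    exact (isRegularIdeal_iff _).mpr ⟨hker, n, g, hreg, hg.symm⟩
  · intro h
    obtain ⟨-, n, g, hreg, hg⟩ := (isRegularIdeal_iff _).mp h
    haveI := free_kaehler (R := R) qP
    haveI := finite_kaehler (R := R) qP
    haveI := formallySmooth_local (R := R) qP
    exact formallySmooth_of_regular_quotient R Sl Tl hα hβ (IsNoetherian.noetherian _) (IsNoetherian.noetherian _)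
      g hg.symm hreg

end Groth.Agent.SmoothRegImm25
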