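import Mathlib.RingTheory.Smooth.Local
import Mathlib.RingTheory.Regular.RegularSequence
import Groth.Agent.Lib.HomDim.VasconcelosSpread

/-!
The differential of the ideal of a local closed subscheme modulo the maximal ideal, and the
propagation of formal smoothness along quotients by regular sequences.
-/

namespace Groth.Agent.SmoothRegImm25

open IsLocalRing TensorProduct KaehlerDifferential

universe u

variable (R : Type u) [CommRing R] {L : Type u} [CommRing L] [IsLocalRing L] [Algebra R L]

/-- The differential at the closed point. -/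
noncomputable def dbar (x : L) : ResidueField L ⊗[L] Ω[L⁄R] := 1 ⊗ₜ D R L x

theorem residue_smul_tmul {M : Type u} [AddCommGroup M] [Module L M] (a : L) (y : M) :
    (residue L a) • ((1 : ResidueField L) ⊗ₜ[L] y) = (1 : ResidueField L) ⊗ₜ[L] (a • y) := by
  rw [TensorProduct.smul_tmul', ← TensorProduct.smul_tmul, smul_eq_mul, mul_one]
  congr 1
  rw [Algebra.smul_def, mul_one]
  rfl

theorem tmul_smul_mem {M : Type u} [AddCommGroup M] [Module L M] {a : L} (ha : a ∈ maximalIdeal L) (y : M) :
    (1 : ResidueField L) ⊗ₜ[L] (a • y) = 0 := by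
  rw [← residue_smul_tmul, (residue_eq_zero_iff a).mpr ha, zero_smul]

theorem dbar_add (x y : L) : dbar R (x + y) = dbar R x + dbar R y := by
  rw [dbar, map_add, TensorProduct.tmul_add]; rfl

theorem dbar_mul {x : L} (hx : x ∈ maximalIdeal L) (a : L) : dbar R (a * x) = residue L a • dbar R x := by
  rw [dbar, Derivation.leibniz, TensorProduct.tmul_add, tmul_smul_mem hx, add_zero]
  exact (residue_smul_tmul a _).symm

theorem dbar_sum {ι : Type*} (s : Finset ι) (x : ι → L) : dbar R (∑ i ∈ s, x i) = ∑ i ∈ s, dbar R (x i) := by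
  simp only [dbar, map_sum, TensorProduct.tmul_sum]

theorem dbar_sub (x y : L) : dbar R (x - y) = dbar R x - dbar R y := by
  rw [dbar, map_sub, TensorProduct.tmul_sub]; rfl

/-- `x ↦ d x` modulo the maximal ideal is injective on `M ⧸ 𝔪 M`. -/
def DInj (M : Ideal L) : Prop := ∀ x ∈ M, dbar R x = 0 → x ∈ maximalIdeal L * M

/-- Formal smoothness of a quotient in terms of `DInj`. -/
theorem formallySmooth_iff [Algebra.FormallySmooth R L] [Module.Free L Ω[L⁄R]] [Module.Finite L Ω[L⁄R]]
    (T : Type u) [CommRing T] [IsLocalRing T] [Algebra R T] [Algebra L T] [IsScalarTower R L T]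
    (hsurj : Function.Surjective (algebraMap L T)) (hfg : (RingHom.ker (algebraMap L T)).FG) :
    Algebra.FormallySmooth R T ↔ DInj R (RingHom.ker (algebraMap L T)) := by
  let M := RingHom.ker (algebraMap L T)
  have hMm : M ≤ maximalIdeal L := le_maximalIdeal (RingHom.ker_ne_top _)
  let g : T →+* ResidueField L := RingHom.liftOfSurjective (algebraMap L T) hsurj
    ⟨residue L, fun x hx => by rw [RingHom.mem_ker]; exact (residue_eq_zero_iff x).mpr (hMm hx)⟩
  letI : Algebra T (ResidueField L) := g.toAlgebra
  haveI : IsScalarTower L T (ResidueField L) := IsScalarTower.of_algebraMap_eq fun x =>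
    (RingHom.liftOfRightInverse_comp_apply (algebraMap L T) (Function.surjInv hsurj) (Function.rightInverse_surjInv hsurj)
      ⟨residue L, fun x hx => by rw [RingHom.mem_ker]; exact (residue_eq_zero_iff x).mpr (hMm hx)⟩ x).symm
  rw [Algebra.FormallySmooth.iff_injective_cotangentComplexBaseChange L (ResidueField L) hsurj hfg]
  · have hmk : ∀ y : ResidueField L ⊗[L] M, ∃ x : M, y = 1 ⊗ₜ x := by
      intro y
      induction y using TensorProduct.induction_on with
      | zero => exact ⟨0, (TensorProduct.tmul_zero _ _).symm⟩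
      | tmul r x =>
        obtain ⟨a, rfl⟩ := residue_surjective r
        refine ⟨a • x, ?_⟩
        rw [← residue_smul_tmul, TensorProduct.smul_tmul', smul_eq_mul, mul_one]
      | add u v hu hv =>
        obtain ⟨a, rfl⟩ := hu; obtain ⟨b, rfl⟩ := hv
        exact ⟨a + b, (TensorProduct.tmul_add _ _ _).symm⟩
    have hval : ∀ x : M, cotangentComplexBaseChange R T L (ResidueField L) (1 ⊗ₜ x) = dbar R (x : L) := fun x => by
      rw [cotangentComplexBaseChange_tmul, one_smul, kerToTensor_apply]
      rfl
    have hzero : ∀ x : M, (1 : ResidueField L) ⊗ₜ[L] x = 0 ↔ (x : L) ∈ maximalIdeal L * M := by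
      intro x
      have h1' : ((1 : L ⧸ maximalIdeal L) ⊗ₜ[L] x = 0) ↔ x ∈ maximalIdeal L • (⊤ : Submodule L M) := by
        rw [← LinearEquiv.map_eq_zero_iff (quotTensorEquivQuotSMul M (maximalIdeal L)),
          show (1 : L ⧸ maximalIdeal L) = Ideal.Quotient.mk (maximalIdeal L) 1 from rfl,
          quotTensorEquivQuotSMul_mk_tmul, one_smul, Submodule.Quotient.mk_eq_zero]
      have h1 : (1 : ResidueField L) ⊗ₜ[L] x = 0 ↔ x ∈ maximalIdeal L • (⊤ : Submodule L M) := h1'
      rw [h1]
      have h2 : (maximalIdeal L • (⊤ : Submodule L M)).map M.subtype = maximalIdeal L * M := by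
        rw [Submodule.map_smul'', Submodule.map_top, Submodule.range_subtype, smul_eq_mul]
      rw [← h2]
      constructor
      · exact fun h => Submodule.mem_map_of_mem h
      · rintro ⟨y, hy, hyx⟩
        rwa [← Subtype.ext (a1 := y) (a2 := x) hyx]
    constructor
    · intro h x hx hd
      refine (hzero ⟨x, hx⟩).mp (h ?_)
      rw [hval, map_zero]; exact hd
    · intro h
      rw [injective_iff_map_eq_zero]
      intro y hy
      obtain ⟨x, rfl⟩ := hmk y
      rw [hval] at hy
      exact (hzero x).mpr (h x x.2 hy)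
  · intro y hy
    obtain ⟨x, rfl⟩ := hsurj y
    rw [RingHom.mem_ker, ← IsScalarTower.algebraMap_apply L T (ResidueField L)]
    refine (residue_eq_zero_iff x).mpr fun hu => hy (hu.map _)

/-- A combination of a sequence regular modulo `J` lying in `J` lies in `J` times the sequence. -/
theorem sum_mem_mul {A : Type u} [CommRing A] (J : Ideal A) : ∀ {n : ℕ} (g : Fin n → A),
    (∀ i, ∀ a, g i * a ∈ J ⊔ Ideal.span (g '' {j | j < i}) → a ∈ J ⊔ Ideal.span (g '' {j | j < i})) →
    ∀ a : Fin n → A, ∑ i, a i * g i ∈ J → ∑ i, a i * g i ∈ J * Ideal.span (Set.range g) := by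
  intro n
  induction n with
  | zero => intro g _ a _; simp
  | succ n ih =>
    intro g hg a ha
    have himg : g '' {j | j < Fin.last n} = Set.range fun i : Fin n => g i.castSucc := by
      ext z
      constructor
      · rintro ⟨j, hj, rfl⟩
        exact ⟨⟨j, hj⟩, rfl⟩
      · rintro ⟨i, rfl⟩
        exact ⟨i.castSucc, Fin.castSucc_lt_last i, rfl⟩
    have hlast : a (Fin.last n) ∈ J ⊔ Ideal.span (Set.range fun i : Fin n => g i.castSucc) := by
      rw [← himg]
      refine hg _ _ ?_
      rw [himg, mul_comm]
      have h := ha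
      rw [Fin.sum_univ_castSucc] at h
      rw [← add_sub_cancel_left (∑ i : Fin n, a i.castSucc * g i.castSucc) (a (Fin.last n) * g (Fin.last n))]
      exact Ideal.sub_mem _ (le_sup_left (b := Ideal.span (Set.range fun i : Fin n => g i.castSucc)) h)
        (le_sup_right (a := J) (Ideal.sum_mem _ fun i _ => Ideal.mul_mem_left _ _
          (Ideal.subset_span ⟨i, rfl⟩)))
    obtain ⟨e, he, w, hw, hew⟩ := Submodule.mem_sup.mp hlast
    obtain ⟨c, rfl⟩ := Submodule.mem_span_range_iff_exists_fun A |>.mp hw
    have key : ∑ i, a i * g i = ∑ i : Fin n, (a i.castSucc + c i * g (Fin.last n)) * g i.castSucc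
        + e * g (Fin.last n) := by
      rw [Fin.sum_univ_castSucc, ← hew, add_mul e, Finset.sum_mul]
      simp only [smul_eq_mul, add_mul, Finset.sum_add_distrib]
      have : ∀ i : Fin n, c i * g i.castSucc * g (Fin.last n) = c i * g (Fin.last n) * g i.castSucc :=
        fun i => by ring
      simp only [this]
      ring
    rw [key] at ha ⊢
    have hsub : Ideal.span (Set.range fun i : Fin n => g i.castSucc) ≤ Ideal.span (Set.range g) :=
      Ideal.span_mono (by rintro _ ⟨i, rfl⟩; exact ⟨_, rfl⟩)
    refine Ideal.add_mem _ (Ideal.mul_mono_right hsub (ih (fun i : Fin n => g i.castSucc) ?_ _ ?_))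
      (Ideal.mul_mem_mul he (Ideal.subset_span ⟨_, rfl⟩))
    · intro i b hb
      have himg' : (fun i : Fin n => g i.castSucc) '' {j | j < i} = g '' {j | j < i.castSucc} := by
        ext z
        constructor
        · rintro ⟨j, hj, rfl⟩
          exact ⟨j.castSucc, hj, rfl⟩
        · rintro ⟨j, hj, rfl⟩
          exact ⟨⟨j, (show (j : ℕ) < i from hj).trans i.2⟩, hj, rfl⟩
      rw [himg'] at hb ⊢
      exact hg i.castSucc b hb
    · simpa using Ideal.sub_mem _ ha (J.mul_mem_right (g (Fin.last n)) he)

/-- Regularity of a sequence in a quotient, upstairs. -/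
theorem regular_sup_iff {A B : Type u} [CommRing A] [CommRing B] (ρ : A →+* B) (hρ : Function.Surjective ρ)
    {n : ℕ} (g : Fin n → A) :
    RingTheory.Sequence.IsWeaklyRegular B (List.ofFn fun i => ρ (g i)) ↔
      ∀ i, ∀ a, g i * a ∈ RingHom.ker ρ ⊔ Ideal.span (g '' {j | j < i}) →
        a ∈ RingHom.ker ρ ⊔ Ideal.span (g '' {j | j < i}) := by
  rw [Vasc.isWeaklyRegular_ofFn_iff]
  refine forall_congr' fun i => ?_
  have hmem : ∀ a, ρ a ∈ Ideal.span ((fun j => ρ (g j)) '' {j | j < i}) ↔
      a ∈ RingHom.ker ρ ⊔ Ideal.span (g '' {j | j < i}) := fun a => by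
    rw [sup_comm, RingHom.ker_eq_comap_bot, ← Ideal.comap_map_of_surjective ρ hρ, Ideal.mem_comap, Ideal.map_span,
      Set.image_image]
  constructor
  · intro h a ha
    rw [← hmem] at ha ⊢
    rw [map_mul] at ha
    exact h _ ha
  · intro h b hb
    obtain ⟨a, rfl⟩ := hρ b
    rw [← map_mul, hmem] at hb
    exact (hmem a).mpr (h a hb)

/-- A quotient of a smooth local algebra is smooth when a further quotient by a regular sequence is. -/
theorem formallySmooth_of_regular_quotient [Algebra.FormallySmooth R L] [Module.Free L Ω[L⁄R]]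
    [Module.Finite L Ω[L⁄R]] (S T : Type u) [CommRing S] [IsLocalRing S] [CommRing T] [IsLocalRing T]
    [Algebra R S] [Algebra L S] [IsScalarTower R L S] [Algebra R T] [Algebra L T] [IsScalarTower R L T]
    [Algebra S T] [IsScalarTower L S T]
    (hS : Function.Surjective (algebraMap L S)) (hT : Function.Surjective (algebraMap S T))
    (hfgS : (RingHom.ker (algebraMap L S)).FG) (hfgT : (RingHom.ker (algebraMap L T)).FG)
    {n : ℕ} (g : Fin n → S) (hg : RingHom.ker (algebraMap S T) = Ideal.span (Set.range g))
    (hreg : RingTheory.Sequence.IsWeaklyRegular S (List.ofFn g)) [Algebra.FormallySmooth R T] :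
    Algebra.FormallySmooth R S := by
  choose gl hgl using fun i => hS (g i)
  let J := RingHom.ker (algebraMap L S)
  let M := RingHom.ker (algebraMap L T)
  have hLT : Function.Surjective (algebraMap L T) := by
    rw [IsScalarTower.algebraMap_eq L S T]; exact hT.comp hS
  have hM := (formallySmooth_iff R T hLT hfgT).mp inferInstance
  refine (formallySmooth_iff R S hS hfgS).mpr fun x hx hd => ?_
  have hMeq : M = J ⊔ Ideal.span (Set.range gl) := by
    rw [show M = (RingHom.ker (algebraMap S T)).comap (algebraMap L S) by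
      rw [RingHom.comap_ker, ← IsScalarTower.algebraMap_eq L S T], hg,
      show Set.range g = (algebraMap L S) '' Set.range gl by
        rw [← Set.range_comp]; exact congrArg _ (funext fun i => (hgl i).symm),
      ← Ideal.map_span, Ideal.comap_map_of_surjective _ hS, sup_comm, ← RingHom.ker_eq_comap_bot]
  have hJM : J ≤ M := le_trans le_sup_left hMeq.ge
  have h1 := hM x (hJM hx) hd
  rw [show RingHom.ker (algebraMap L T) = M from rfl, hMeq, Ideal.mul_sup] at h1
  obtain ⟨j, hj, w, hw, hjw⟩ := Submodule.mem_sup.mp h1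
  have hle : maximalIdeal L * Ideal.span (Set.range gl) ≤ Ideal.span (Set.range gl) := Ideal.mul_le_right
  have hw' : w ∈ Ideal.span (Set.range gl) := hle hw
  obtain ⟨a, rfl⟩ := Submodule.mem_span_range_iff_exists_fun L |>.mp hw'
  have hJ' : maximalIdeal L * J ≤ J := Ideal.mul_le_right
  have hwJ : ∑ i, a i * gl i ∈ J := by
    have := J.sub_mem hx (hJ' hj)
    rw [← hjw, add_sub_cancel_left] at this
    exact this
  have hreg' : RingTheory.Sequence.IsWeaklyRegular S (List.ofFn fun i => algebraMap L S (gl i)) := by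
    rw [show (fun i => algebraMap L S (gl i)) = g from funext hgl]; exact hreg
  have hsum := sum_mem_mul J gl ((regular_sup_iff (algebraMap L S) hS gl).mp hreg') a hwJ
  rw [← hjw]
  refine Ideal.add_mem _ hj ?_
  refine (show J * Ideal.span (Set.range gl) ≤ maximalIdeal L * J from ?_) hsum
  rw [mul_comm]
  refine Ideal.mul_mono_left ?_
  exact (le_trans le_sup_right hMeq.ge).trans (le_maximalIdeal (RingHom.ker_ne_top _))

end Groth.Agent.SmoothRegImm25
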