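import Groth.Agent.Lib.SmoothRegImm25.Chart
import Groth.Agent.Lib.KummerTame25.Smooth

/-!
Etale coordinates vanishing on a section at a smooth point.
-/

universe u

open IsLocalRing TensorProduct KaehlerDifferential MvPolynomial

namespace Groth.Agent.SmoothRegImm25

set_option maxHeartbeats 800000 in
/-- Etale coordinates in the kernel of an augmentation. -/
theorem exists_etale_coords {R B : Type u} [CommRing R] [CommRing B] [Algebra R B]
    [Algebra.FinitePresentation R B] (ε : B →ₐ[R] R) (Q : Ideal B) [Q.IsPrime] [Algebra.IsSmoothAt R Q] :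
    ∃ (s : B) (_ : s ∉ Q) (m : ℕ) (g : ULift.{u} (Fin m) → B), (∀ j, ε (g j) = 0) ∧
      ∀ (S : Type u) [CommRing S] [Algebra B S] [Algebra R S] [IsScalarTower R B S] [IsLocalization.Away s S],
        (eval₂Hom (algebraMap R S) fun j => algebraMap B S (g j)).Etale := by
  classical
  let L := Localization.AtPrime Q
  let κ := ResidueField L
  haveI : Algebra.FormallySmooth R L := ‹Algebra.IsSmoothAt R Q›
  haveI : Algebra.EssFiniteType R L := inferInstance
  haveI : Module.Finite L Ω[L⁄R] := inferInstance
  haveI : Module.Projective L Ω[L⁄R] := inferInstance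
  haveI : Module.FinitePresentation L Ω[L⁄R] := Module.finitePresentation_of_projective L _
  haveI : Module.Free L Ω[L⁄R] := Module.free_of_flat_of_isLocalRing
  let V := κ ⊗[L] Ω[L⁄R]
  let S0 : Set V := Set.range fun b : RingHom.ker ε => dbar R (algebraMap B L b.1)
  have hspan : ⊤ ≤ Submodule.span κ S0 := by
    rintro z -
    induction z using TensorProduct.induction_on with
    | zero => exact Submodule.zero_mem _
    | add a b ha hb => exact Submodule.add_mem _ ha hb
    | tmul c x =>
      have h1 : (1 : κ) ⊗ₜ[L] x ∈ Submodule.span κ S0 := by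
        haveI : Algebra.FormallyEtale B L := Algebra.FormallyEtale.of_isLocalization Q.primeCompl
        obtain ⟨w, rfl⟩ := (tensorKaehlerEquivOfFormallyEtale R B L).surjective x
        induction w using TensorProduct.induction_on with
        | zero => rw [map_zero, TensorProduct.tmul_zero]; exact Submodule.zero_mem _
        | add a b ha hb => rw [map_add, TensorProduct.tmul_add]; exact Submodule.add_mem _ ha hb
        | tmul l ω =>
          have hω : ω ∈ Submodule.span B (Set.range (D R B)) := by
            rw [span_range_derivation]; exact Submodule.mem_top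
          induction hω using Submodule.span_induction generalizing l with
          | mem ω hω =>
            obtain ⟨b, rfl⟩ := hω
            rw [show l ⊗ₜ[B] D R B b = l • ((1 : L) ⊗ₜ[B] D R B b) by rw [TensorProduct.smul_tmul', smul_eq_mul, mul_one],
              map_smul, tensorKaehlerEquivOfFormallyEtale_apply, mapBaseChange_one_D, ← residue_smul_tmul]
            refine Submodule.smul_mem _ _ (Submodule.subset_span ⟨⟨b - algebraMap R B (ε b), ?_⟩, ?_⟩)
            · rw [RingHom.mem_ker, map_sub, AlgHom.commutes]; exact sub_self _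
            · show dbar R (algebraMap B L (b - algebraMap R B (ε b))) = dbar R (algebraMap B L b)
              rw [map_sub, dbar_sub, ← IsScalarTower.algebraMap_apply R B L]
              simp [dbar]
          | zero => simp
          | add a b _ _ ha hb => rw [TensorProduct.tmul_add, map_add, TensorProduct.tmul_add]; exact Submodule.add_mem _ (ha l) (hb l)
          | smul b ω _ hw => rw [TensorProduct.tmul_smul, TensorProduct.smul_tmul']; exact hw _
      have : c ⊗ₜ[L] x = c • ((1 : κ) ⊗ₜ[L] x) := by rw [TensorProduct.smul_tmul', smul_eq_mul, mul_one]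
      rw [this]
      exact Submodule.smul_mem _ _ h1
  obtain ⟨T, hTS, hTspan, hTind⟩ := exists_linearIndependent κ S0
  have bT : Module.Basis T κ V := Module.Basis.mk hTind (by
    rw [Subtype.range_coe_subtype, Set.setOf_mem_eq, hTspan]; exact hspan)
  haveI : Finite T := Module.Finite.finite_basis bT
  letI := Fintype.ofFinite T
  let m := Fintype.card T
  let eT : ULift.{u} (Fin m) ≃ T := Equiv.ulift.trans (Fintype.equivFin T).symm
  choose g hg using fun j : ULift.{u} (Fin m) => hTS (eT j).2
  let P0 := MvPolynomial (ULift.{u} (Fin m)) R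
  letI : Algebra P0 B := (aeval fun j => (g j).1 : P0 →ₐ[R] B).toRingHom.toAlgebra
  haveI : IsScalarTower R P0 B := IsScalarTower.of_algebraMap_eq fun x =>
    ((aeval fun j => (g j).1 : P0 →ₐ[R] B).commutes x).symm
  haveI : Algebra.FinitePresentation P0 B := Algebra.FinitePresentation.of_restrict_scalars_finitePresentation R P0 B
  haveI : IsScalarTower R P0 L := IsScalarTower.of_algebraMap_eq fun x => by
    rw [IsScalarTower.algebraMap_apply R B L, IsScalarTower.algebraMap_apply R P0 B,
      ← IsScalarTower.algebraMap_apply P0 B L]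
  let b0 : Module.Basis (ULift.{u} (Fin m)) L (L ⊗[P0] Ω[P0⁄R]) :=
    Algebra.TensorProduct.basis L (mvPolynomialBasis R (ULift.{u} (Fin m)))
  have hval : ∀ z, mapBaseChange R P0 L (b0 z) = D R L (algebraMap B L (g z).1) := fun z => by
    rw [Algebra.TensorProduct.basis_apply, mvPolynomialBasis_apply, mapBaseChange_one_D,
      IsScalarTower.algebraMap_apply P0 B L]
    exact congrArg (fun t => D R L (algebraMap B L t)) (aeval_X _ z)
  have hsurj : Function.Surjective (mapBaseChange R P0 L) := by
    rw [← LinearMap.range_eq_top]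
    refine IsLocalRing.map_tensorProduct_mk_eq_top.mp ?_
    rw [eq_top_iff]
    intro y _
    have hy : y ∈ Submodule.span κ S0 := hspan trivial
    rw [← hTspan] at hy
    induction hy using Submodule.span_induction with
    | mem z hz =>
      refine ⟨D R L (algebraMap B L (g (eT.symm ⟨z, hz⟩)).1), ⟨b0 _, hval _⟩, ?_⟩
      exact (hg _).trans (by rw [Equiv.apply_symm_apply])
    | zero => exact Submodule.zero_mem _
    | add u w _ _ hu hw => exact Submodule.add_mem _ (hu trivial) (hw trivial)
    | smul t u _ hu =>
      obtain ⟨l, rfl⟩ := residue_surjective t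
      obtain ⟨z, hz, rfl⟩ := hu trivial
      exact ⟨l • z, Submodule.smul_mem _ l hz, (residue_smul_tmul l z).symm⟩
  have hbij : Function.Bijective (mapBaseChange R P0 L) := by
    let bL := Module.Free.chooseBasis L Ω[L⁄R]
    have hcard : Nat.card (Module.Free.ChooseBasisIndex L Ω[L⁄R]) = m := by
      rw [Nat.card_congr ((Algebra.TensorProduct.basis κ bL).indexEquiv bT), Nat.card_eq_fintype_card]
    let e : (L ⊗[P0] Ω[P0⁄R]) ≃ₗ[L] Ω[L⁄R] := b0.equiv bL
      (Equiv.ulift.trans (Finite.equivFinOfCardEq hcard).symm)
    haveI : Module.Finite L (L ⊗[P0] Ω[P0⁄R]) := Module.Finite.of_basis b0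
    have h := OrzechProperty.bijective_of_surjective_endomorphism
      (e.symm.toLinearMap ∘ₗ (mapBaseChange R P0 L : (L ⊗[P0] Ω[P0⁄R]) →ₗ[L] Ω[L⁄R]))
      (e.symm.surjective.comp hsurj)
    rwa [LinearMap.coe_comp, LinearEquiv.coe_coe, e.symm.bijective.of_comp_iff'] at h
  haveI : Algebra.FormallyEtale P0 L := by
    have hΩ : Subsingleton Ω[L⁄P0] := by
      refine subsingleton_of_forall_eq 0 fun x => ?_
      obtain ⟨y, rfl⟩ := map_surjective R P0 L x
      exact (exact_mapBaseChange_map R P0 L y).mpr (hbij.2 y)
    have hH : Subsingleton (Algebra.H1Cotangent P0 L) := by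
      refine subsingleton_of_forall_eq 0 fun x => ?_
      have h0 : Algebra.H1Cotangent.δ R P0 L x = 0 :=
        hbij.1 ((Algebra.H1Cotangent.exact_δ_mapBaseChange R P0 L).apply_apply_eq_zero x |>.trans
          (map_zero _).symm)
      obtain ⟨y, rfl⟩ := (Algebra.H1Cotangent.exact_map_δ R P0 L x).mp h0
      rw [Subsingleton.elim y 0, map_zero]
    exact ⟨hΩ, hH⟩
  haveI : Algebra.IsEtaleAt P0 Q := ‹Algebra.FormallyEtale P0 L›
  obtain ⟨s, hs, het⟩ := Algebra.exists_etale_of_isEtaleAt (R := P0) Q
  refine ⟨s, hs, m, fun j => (g j).1, fun j => (g j).2, fun S _ _ _ _ _ => ?_⟩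
  letI : Algebra P0 S := ((algebraMap B S).comp (algebraMap P0 B)).toAlgebra
  haveI : IsScalarTower P0 B S := IsScalarTower.of_algebraMap_eq fun _ => rfl
  haveI : Algebra.Etale P0 S := Algebra.Etale.of_equiv
    ((IsLocalization.algEquiv (Submonoid.powers s) (Localization.Away s) S).restrictScalars P0)
  have he : (eval₂Hom (algebraMap R S) fun j => algebraMap B S (g j).1) = algebraMap P0 S := by
    refine MvPolynomial.ringHom_ext (fun r => ?_) (fun j => ?_)
    · rw [eval₂Hom_C, IsScalarTower.algebraMap_apply R B S]
      exact congrArg (algebraMap B S) ((aeval fun j => (g j).1 : P0 →ₐ[R] B).commutes r).symm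
    · rw [eval₂Hom_X']
      exact congrArg (algebraMap B S) (aeval_X (fun j => (g j).1) j).symm
  rw [he, RingHom.etale_algebraMap]
  infer_instance

end Groth.Agent.SmoothRegImm25
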